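import Mathlib

universe u
open CategoryTheory CategoryTheory.Limits AlgebraicGeometry

namespace Groth.Agent.Helper5.OpenDesc

theorem s5113 {S' S : Scheme.{u}} (g : S' ⟶ S)
    (hg : Topology.IsQuotientMap g.base) (U' : S'.Opens)
    (h : (pullback.fst g g) ⁻¹ᵁ U' = (pullback.snd g g) ⁻¹ᵁ U') :
    ∃! U : S.Opens, g ⁻¹ᵁ U = U' := by
  have hsat : ∀ a b : S', g a = g b → a ∈ U' → b ∈ U' := by
    intro a b hab ha
    obtain ⟨z, hz1, hz2⟩ := Scheme.Pullback.exists_preimage_pullback (f := g) (g := g) a b hab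
    have h1 : z ∈ (pullback.fst g g) ⁻¹ᵁ U' := by
      show (pullback.fst g g) z ∈ U'
      rw [hz1]; exact ha
    rw [h] at h1
    have h2 : (pullback.snd g g) z ∈ U' := h1
    rw [hz2] at h2
    exact h2
  have hpre : g.base ⁻¹' (g.base '' (U' : Set S')) = (U' : Set S') := by
    ext b
    constructor
    · rintro ⟨a, ha, hab⟩
      exact hsat a b hab ha
    · intro hb
      exact ⟨b, hb, rfl⟩
  have hopen : IsOpen (g.base '' (U' : Set S')) := by
    rw [← hg.isOpen_preimage, hpre]
    exact U'.2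
  refine ⟨⟨g.base '' (U' : Set S'), hopen⟩, ?_, ?_⟩
  · ext b
    show b ∈ g.base ⁻¹' (g.base '' (U' : Set S')) ↔ b ∈ (U' : Set S')
    rw [hpre]
  · intro V hV
    ext s
    obtain ⟨a, rfl⟩ := hg.surjective s
    constructor
    · intro ha
      refine ⟨a, ?_, rfl⟩
      rw [← hV]
      exact ha
    · rintro ⟨b, hb, hba⟩
      rw [← hV] at hb
      have : g b ∈ V := hb
      rw [← hba]
      exact this

end Groth.Agent.Helper5.OpenDesc
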