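import Mathlib

universe u
open CategoryTheory CategoryTheory.Limits AlgebraicGeometry MorphismProperty

namespace Groth.Agent.Helper5.QCDesc

set_option backward.isDefEq.respectTransparency.types false in
theorem s5132 :
    MorphismProperty.DescendsAlong @QuasiCompact (@Surjective ⊓ @QuasiCompact : MorphismProperty Scheme.{u}) := by
  apply IsZariskiLocalAtTarget.descendsAlong_inf_quasiCompact
  · exact fun _ _ f hf => hf.2
  · intro R S Y φ g hφ hq
    have hφ' : Surjective (Spec.map φ) := hφ
    have hq' : QuasiCompact (pullback.fst (Spec.map φ) g) := hq
    have h1 : CompactSpace ↥(pullback (Spec.map φ) g) := by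
      rw [← quasiCompact_iff_compactSpace (pullback.fst (Spec.map φ) g)]
      exact hq'
    have h2 : Surjective (pullback.snd (Spec.map φ) g) := inferInstance
    have h3 : CompactSpace Y := by
      constructor
      rw [← Set.range_eq_univ.mpr h2.surj]
      exact isCompact_range (pullback.snd (Spec.map φ) g).continuous
    show QuasiCompact g
    rw [quasiCompact_iff_compactSpace g]
    exact h3

end Groth.Agent.Helper5.QCDesc
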